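import Groth.Agent.Lib.AVEmb13.Deriv
import Groth.Agent.Lib.ProjSpace.Basic
import Mathlib.AlgebraicGeometry.Morphisms.ClosedImmersion

/-!
# The affine charts of a closed subscheme of projective space
-/

set_option autoImplicit false
set_option linter.style.haveILetI false
set_option backward.isDefEq.respectTransparency false
set_option backward.isDefEq.respectTransparency.types false
set_option maxHeartbeats 1000000

universe u

open CategoryTheory AlgebraicGeometry TopologicalSpace Opposite HomogeneousLocalization MvPolynomial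

namespace Groth.Agent.AVEmb13

attribute [local instance] MvPolynomial.gradedAlgebra

open Groth.Agent.ProjSpace (coord const)

variable {k : Type u} [Field k] {n : ℕ}

local notation "𝒜" => CohB1.polyGrading n k

theorem fromSpec_basicOpen (l : Fin (n + 1)) :
    (Proj.isAffineOpen_basicOpen 𝒜 (X l) (ProjSpace.X_mem' n k l) Nat.one_pos).fromSpec =
      Spec.map (Proj.awayToSection 𝒜 (X l)) ≫ Proj.awayι 𝒜 (X l) (ProjSpace.X_mem' n k l) Nat.one_pos := by
  let hA := Proj.isAffineOpen_basicOpen 𝒜 (X l) (ProjSpace.X_mem' n k l) Nat.one_pos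
  let e := Proj.basicOpenIsoAway 𝒜 (X l) (ProjSpace.X_mem' n k l) Nat.one_pos
  have h : Spec.map e.inv ≫ hA.fromSpec = Proj.awayι 𝒜 (X l) (ProjSpace.X_mem' n k l) Nat.one_pos := by
    rw [Proj.awayι, Iso.eq_inv_comp, Proj.basicOpenIsoSpec_hom, Proj.basicOpenToSpec, Category.assoc]
    rw [show Spec.map (Proj.awayToSection 𝒜 (X l)) = Spec.map e.hom from rfl, ← Spec.map_comp_assoc,
      e.inv_hom_id, Spec.map_id, Category.id_comp, IsAffineOpen.toSpecΓ_fromSpec]
  rw [← h, show Spec.map (Proj.awayToSection 𝒜 (X l)) = Spec.map e.hom from rfl, ← Spec.map_comp_assoc,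
    e.inv_hom_id, Spec.map_id, Category.id_comp]

theorem coord_eq_mk_pow (l j : Fin (n + 1)) :
    coord k l j = HomogeneousLocalization.mk ⟨1, ⟨X j, ProjSpace.X_mem' n k j⟩,
      ⟨X l ^ 1, by rw [pow_one]; exact ProjSpace.X_mem' n k l⟩, (Submonoid.mem_powers_iff _ _).2 ⟨1, rfl⟩⟩ := by
  refine HomogeneousLocalization.val_injective _ ?_
  rw [ProjSpace.val_coord, HomogeneousLocalization.val_mk]
  congr 1
  exact Subtype.ext (pow_one _).symm

/-- The value of `Tⱼ/Tᵢ` after restricting to `D₊(TᵢTₘ)`. -/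
theorem coord_mul_coord (l m j : Fin (n + 1)) :
    awayMap 𝒜 (ProjSpace.X_mem' n k m) (rfl : (X l * X m : MvPolynomial (Fin (n + 1)) k) = X l * X m) (coord k l m) *
      awayMap 𝒜 (ProjSpace.X_mem' n k l) (mul_comm (X l) (X m) : (X l * X m : MvPolynomial (Fin (n + 1)) k) = X m * X l)
        (coord k m j) =
    awayMap 𝒜 (ProjSpace.X_mem' n k m) (rfl : (X l * X m : MvPolynomial (Fin (n + 1)) k) = X l * X m) (coord k l j) := by
  refine HomogeneousLocalization.val_injective _ ?_
  rw [HomogeneousLocalization.val_mul]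
  rw [coord_eq_mk_pow, coord_eq_mk_pow, coord_eq_mk_pow, val_awayMap_mk, val_awayMap_mk, val_awayMap_mk]
  rw [Localization.mk_mul, Localization.mk_eq_mk_iff, Localization.r_iff_exists]
  exact ⟨1, by simp; ring⟩

/-- Charts with coordinate functions on a closed subscheme of projective space. -/
theorem exists_charts (X' : Over (Spec (CommRingCat.of k))) (f : X'.left ⟶ CohB1.ProjSpace n k)
    [IsClosedImmersion f] (hf : f ≫ CohB1.ProjSpace.toSpec n k = X'.hom) :
    ∃ (U : Fin (n + 1) → X'.left.Opens) (y : ∀ l, Fin (n + 1) → Γ(X'.left, U l)),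
      (∀ l, IsAffineOpen (U l)) ∧ (∀ x, ∃ l, x ∈ U l) ∧ (∀ l, y l l = 1) ∧
      (∀ l m (W : X'.left.Opens) (hl : W ≤ U l) (hm : W ≤ U m) (j : Fin (n + 1)),
        X'.left.presheaf.map (homOfLE hl).op (y l m) * X'.left.presheaf.map (homOfLE hm).op (y m j) =
          X'.left.presheaf.map (homOfLE hl).op (y l j)) ∧
      ∀ l, Subring.closure (Set.range (cst X' (U l)) ∪ Set.range (y l)) = ⊤ := by
  let D : Fin (n + 1) → (CohB1.ProjSpace n k).Opens := fun l => Proj.basicOpen 𝒜 (X l)
  let σ : ∀ l, Away 𝒜 (X l : MvPolynomial (Fin (n + 1)) k) →+* Γ(X'.left, f ⁻¹ᵁ D l) := fun l =>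
    (Proj.awayToSection 𝒜 (X l) ≫ f.app (D l)).hom
  refine ⟨fun l => f ⁻¹ᵁ D l, fun l j => σ l (coord k l j),
    fun l => (Proj.isAffineOpen_basicOpen 𝒜 _ (ProjSpace.X_mem' n k l) Nat.one_pos).preimage f,
    fun x => ?_, fun l => ?_, fun l m W hl hm j => ?_, fun l => ?_⟩
  · obtain ⟨l, hl⟩ := ProjSpace.exists_mem_chart n k (f x)
    exact ⟨l, by rwa [ProjSpace.opensRange_chart] at hl⟩
  · show σ l (coord k l l) = 1
    rw [show coord k l l = 1 from HomogeneousLocalization.val_injective _ (by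
      rw [ProjSpace.val_coord, HomogeneousLocalization.val_one]
      exact Localization.mk_self (⟨X l, 1, pow_one _⟩ : Submonoid.powers (X l : MvPolynomial (Fin (n + 1)) k))),
      map_one]
  · let E : (CohB1.ProjSpace n k).Opens := Proj.basicOpen 𝒜 (X l * X m)
    have hE : W ≤ f ⁻¹ᵁ E := fun x hx => by
      show f x ∈ Proj.basicOpen 𝒜 (X l * X m)
      rw [Proj.basicOpen_mul]
      exact ⟨hl hx, hm hx⟩
    let ρ : Away 𝒜 (X l * X m : MvPolynomial (Fin (n + 1)) k) →+* Γ(X'.left, W) :=
      (Proj.awayToSection 𝒜 (X l * X m) ≫ f.appLE E W hE).hom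
    have key : ∀ (a b : Fin (n + 1)) (h : (X l * X m : MvPolynomial (Fin (n + 1)) k) = X a * X b) (ha : W ≤ f ⁻¹ᵁ D a) z,
        X'.left.presheaf.map (homOfLE ha).op (σ a z) = ρ (awayMap 𝒜 (ProjSpace.X_mem' n k b) h z) := by
      intro a b h ha z
      have e : Proj.awayToSection 𝒜 (X a) ≫ f.app (D a) ≫ X'.left.presheaf.map (homOfLE ha).op =
          CommRingCat.ofHom (awayMap 𝒜 (ProjSpace.X_mem' n k b) h) ≫ Proj.awayToSection 𝒜 (X l * X m) ≫
            f.appLE E W hE := by
        rw [Proj.awayMap_awayToSection_assoc, Scheme.Hom.map_appLE, Scheme.Hom.app_eq_appLE, Scheme.Hom.appLE_map]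
      exact ConcreteCategory.congr_hom e z
    show X'.left.presheaf.map (homOfLE hl).op (σ l (coord k l m)) *
        X'.left.presheaf.map (homOfLE hm).op (σ m (coord k m j)) =
      X'.left.presheaf.map (homOfLE hl).op (σ l (coord k l j))
    rw [key l m rfl hl, key m l (mul_comm _ _) hm, key l m rfl hl, ← map_mul ρ, coord_mul_coord]
  · have hA := Proj.isAffineOpen_basicOpen 𝒜 (X l) (ProjSpace.X_mem' n k l) Nat.one_pos
    have hsurj : Function.Surjective (σ l) := fun a => by
      obtain ⟨b, hb⟩ := f.app_surjective (D l) hA a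
      obtain ⟨z, hz⟩ := (ConcreteCategory.bijective_of_isIso
        (Proj.basicOpenIsoAway 𝒜 (X l) (ProjSpace.X_mem' n k l) Nat.one_pos).hom).2 b
      exact ⟨z, (congrArg (f.app (D l)) hz).trans hb⟩
    have hconst : (σ l).comp (const k l) = cst X' (f ⁻¹ᵁ D l) := by
      have h1 : Spec.map (CommRingCat.ofHom ((σ l).comp (const k l))) =
          Spec.map (CommRingCat.ofHom (cst X' (f ⁻¹ᵁ D l))) := by
        rw [← fromSpec_over X' (hA.preimage f), ← hf,
          ← IsAffineOpen.SpecMap_appLE_fromSpec_assoc f hA (hA.preimage f) le_rfl,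
          show hA.fromSpec = _ from fromSpec_basicOpen l, Category.assoc]
        show _ = _ ≫ _ ≫ Proj.awayι 𝒜 (X l) (ProjSpace.X_mem' n k l) Nat.one_pos ≫
          Proj.toSpecZero 𝒜 ≫ Spec.map (CommRingCat.ofHom (algebraMap k (𝒜 0)))
        rw [Proj.awayι_toSpecZero_assoc, ← Spec.map_comp, ← Spec.map_comp, ← Spec.map_comp]
        refine congrArg Spec.map ?_
        refine CommRingCat.hom_ext (RingHom.ext fun r => ?_)
        show (f.app (D l)) ((Proj.awayToSection 𝒜 (X l)) (const k l r)) = _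
        rw [Scheme.Hom.app_eq_appLE]
        rfl
      exact congrArg CommRingCat.Hom.hom (Spec.map_injective h1)
    refine eq_top_iff.2 fun a ha => ?_
    clear ha
    obtain ⟨z, rfl⟩ := hsurj a
    obtain ⟨p, rfl⟩ := (ProjSpace.toAway_bijective k l).2 z
    induction p using MvPolynomial.induction_on with
    | C r => ?_
    | add p q hp hq => ?_
    | mul_X p j hp => ?_
    · rw [ProjSpace.toAway_C]
      exact Subring.subset_closure (Or.inl ⟨r, (RingHom.congr_fun hconst r).symm⟩)
    · rw [map_add, map_add]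
      exact add_mem hp hq
    · rw [map_mul, map_mul, ProjSpace.toAway_X]
      exact mul_mem hp (Subring.subset_closure (Or.inr ⟨j.1, rfl⟩))

end Groth.Agent.AVEmb13
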