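import Mathlib.RingTheory.Valuation.LocalSubring
import Mathlib.RingTheory.Ideal.KrullsHeightTheorem
import Mathlib.LinearAlgebra.Matrix.NonsingularInverse
import Mathlib.FieldTheory.IsAlgClosed.Basic
import Mathlib.LinearAlgebra.Dual.Lemmas
import Mathlib.LinearAlgebra.Matrix.Adjugate

/-!
# Algebra for the tangency argument
-/

set_option autoImplicit false
set_option linter.style.haveILetI false

universe u

namespace Groth.Agent.AVEmb13

/-- Over an algebraically closed field, what lies in every valuation ring containing the constants is constant. -/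
theorem mem_range_of_forall_valuation {k κ : Type u} [Field k] [IsAlgClosed k] [Field κ] (c : k →+* κ) (z : κ)
    (h : ∀ V : ValuationSubring κ, (∀ a, c a ∈ V) → z ∈ V) : z ∈ c.range := by
  letI := c.toAlgebra
  have hz : z ∈ (⨅ V : {V : ValuationSubring κ // Set.range c ⊆ (V.toSubring : Set κ)}, V.1.toSubring) :=
    Subring.mem_iInf.2 fun V => h V.1 fun a => V.2 ⟨a, rfl⟩
  rw [iInf_valuationSubring_superset] at hz
  have hcl : Subring.closure (Set.range c) = c.range := by
    rw [← RingHom.coe_range, Subring.closure_eq]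
  rw [hcl] at hz
  obtain ⟨p, hp, hpz⟩ := hz
  have hint : IsIntegral k z := by
    obtain ⟨q, hq⟩ : p.map c.range.subtype ∈ Polynomial.lifts c := by
      rw [Polynomial.lifts_iff_coeff_lifts]
      intro i
      rw [Polynomial.coeff_map]
      exact (p.coeff i).2
    obtain ⟨q', hq', -, hm⟩ := Polynomial.lifts_and_degree_eq_and_monic ((Polynomial.mem_lifts _).2 ⟨q, hq⟩)
      (hp.map c.range.subtype)
    refine ⟨q', hm, ?_⟩
    rw [← Polynomial.eval_map, show q'.map (algebraMap k κ) = p.map c.range.subtype from hq', Polynomial.eval_map]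
    exact hpz
  have := IsAlgClosed.degree_eq_one_of_irreducible k (minpoly.irreducible hint)
  exact minpoly.degree_eq_one_iff.1 this

/-- Independent rows have an invertible maximal minor. -/
theorem exists_minor {k : Type u} [Field k] {g N : ℕ} (M : Fin g → Fin N → k)
    (h : ∀ x : Fin g → k, (∀ j, ∑ i, x i * M i j = 0) → x = 0) :
    ∃ J : Fin g → Fin N, (Matrix.of fun i j => M i (J j)).det ≠ 0 := by
  classical
  let col : Fin N → Fin g → k := fun j i => M i j
  have hsp : Submodule.span k (Set.range col) = ⊤ := by
    by_contra hne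
    obtain ⟨φ, hφ, hφ0⟩ := Submodule.exists_dual_map_eq_bot_of_lt_top (lt_top_iff_ne_top.2 hne) inferInstance
    refine hφ (LinearMap.pi_ext' fun i => LinearMap.ext_ring ?_)
    have hx := h (fun i => φ (Pi.single i 1)) fun j => by
      have : φ (col j) = 0 := (Submodule.mem_bot k).1 (hφ0 ▸ ⟨col j, Submodule.subset_span ⟨j, rfl⟩, rfl⟩)
      rw [← Finset.univ_sum_single (col j), map_sum] at this
      refine (Finset.sum_congr rfl fun i _ => ?_).trans this
      rw [show Pi.single i (col j i) = col j i • Pi.single i (1 : k) from by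
        rw [← Pi.single_smul', smul_eq_mul, mul_one], map_smul, smul_eq_mul, mul_comm]
    simpa using congrFun hx i
  obtain ⟨b, hb, hbsp, hbli⟩ := exists_linearIndependent k (Set.range col)
  rw [hsp] at hbsp
  let B : Module.Basis b k (Fin g → k) := Module.Basis.mk hbli (by rw [Subtype.range_coe, hbsp])
  haveI : Finite b := Module.Finite.finite_basis B
  haveI : Fintype b := Fintype.ofFinite b
  have hcard : Fintype.card b = g := by
    rw [← Module.finrank_eq_card_basis B, Module.finrank_fin_fun]
  let e : Fin g ≃ b := (Fintype.equivFinOfCardEq hcard).symm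
  choose f hf using hb
  refine ⟨fun j => f (e j).2, ?_⟩
  have hli : LinearIndependent k (Matrix.of fun i j => M i (f (e j).2)).col := by
    have : (Matrix.of fun i j => M i (f (e j).2)).col = fun j => ((e j : b) : Fin g → k) := by
      funext j i
      exact congrFun (hf (e j).2) i
    rw [this]
    exact hbli.comp _ e.injective
  exact ((Matrix.isUnit_iff_isUnit_det _).1 (Matrix.linearIndependent_cols_iff_isUnit.1 hli)).ne_zero

/-- Cramer's rule for the image in a field. -/
theorem mul_eq_of_solution {A κ : Type u} [CommRing A] [CommRing κ] (φ : A →+* κ) {g : ℕ}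
    (M : Matrix (Fin g) (Fin g) A) (w : Fin g → A) (c : Fin g → κ)
    (h : ∀ j, ∑ i, c i * φ (M i j) = φ (w j)) (i : Fin g) :
    φ M.det * c i = φ (Matrix.vecMul w M.adjugate i) := by
  have h1 : Matrix.vecMul c (M.map φ) = φ ∘ w := funext h
  have h2 : Matrix.vecMul (Matrix.vecMul c (M.map φ)) (M.map φ).adjugate = (M.map φ).det • c := by
    rw [Matrix.vecMul_vecMul, Matrix.mul_adjugate, Matrix.vecMul_smul, Matrix.vecMul_one]
  rw [h1] at h2
  have h3 := congrFun h2 i
  rw [RingHom.map_vecMul, RingHom.map_det φ M]
  rw [show (M.map φ).adjugate = M.adjugate.map φ from (RingHom.map_adjugate φ M).symm] at h3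
  exact h3.symm

/-- The adjugate gives a solution of the square system. -/
theorem adjugate_solution {A : Type u} [CommRing A] {g : ℕ} (M : Matrix (Fin g) (Fin g) A) (w : Fin g → A)
    (j : Fin g) : ∑ i, Matrix.vecMul w M.adjugate i * M i j = M.det * w j := by
  have h : Matrix.vecMul (Matrix.vecMul w M.adjugate) M = M.det • w := by
    rw [Matrix.vecMul_vecMul, Matrix.adjugate_mul, Matrix.vecMul_smul, Matrix.vecMul_one]
  exact congrFun h j

/-- Few equations through a point of large height cut out more than the point. -/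
theorem exists_prime_ne {A : Type u} [CommRing A] [IsNoetherianRing A] (m : Ideal A) [m.IsPrime]
    (S : Finset A) (hS : (↑S : Set A) ⊆ m) (hh : (S.card : ℕ∞) < m.height) :
    ∃ P : Ideal A, P.IsPrime ∧ (↑S : Set A) ⊆ P ∧ P ≤ m ∧ P ≠ m := by
  by_contra hne
  refine not_le.2 hh (Ideal.height_le_card_of_mem_minimalPrimes_span_finset
    ⟨⟨inferInstance, Ideal.span_le.2 hS⟩, ?_⟩)
  intro P hP hPm
  by_contra hle
  exact hne ⟨P, hP.1, Ideal.span_le.1 hP.2, hPm, fun e => hle e.ge⟩

end Groth.Agent.AVEmb13
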