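import Mathlib.AlgebraicGeometry.AffineScheme
import Mathlib.AlgebraicGeometry.Stalk
import Mathlib.Algebra.DualNumber
import Mathlib.AlgebraicGeometry.Noetherian
import Mathlib.CategoryTheory.Monoidal.Cartesian.Grp
import Mathlib.AlgebraicGeometry.Morphisms.Basic
import Mathlib.AlgebraicGeometry.Pullbacks
import Mathlib.CategoryTheory.Monoidal.Cartesian.Over
import Mathlib.RingTheory.RegularLocalRing.Defs

/-!
# Invariant derivations on a group scheme over a field

A tangent vector `v` at the origin gives a derivation of the functions on each affine open `U`, by pulling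
back along `x ↦ x * v` over the dual numbers.
-/

set_option autoImplicit false
set_option linter.style.haveILetI false
set_option backward.isDefEq.respectTransparency false
set_option backward.isDefEq.respectTransparency.types false
set_option maxHeartbeats 1000000

universe u

open CategoryTheory CategoryTheory.Limits AlgebraicGeometry TopologicalSpace Opposite MonObj
open scoped MonoidalCategory DualNumber
open TrivSqZeroExt

namespace Groth.Agent.AVEmb13

variable {k : Type u} [Field k]

/-- `Spec A` over `k`. -/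
noncomputable abbrev sp (A : Type u) [CommRing A] (c : k →+* A) : Over (Spec (CommRingCat.of k)) :=
  Over.mk (Spec.map (CommRingCat.ofHom c))

/-- Morphisms of `Spec`s over `k`. -/
noncomputable def spm {A B : Type u} [CommRing A] [CommRing B] {c : k →+* A} {c' : k →+* B} (r : A →+* B)
    (h : r.comp c = c') : sp B c' ⟶ sp A c :=
  Over.homMk (Spec.map (CommRingCat.ofHom r)) (by
    subst h
    show Spec.map (CommRingCat.ofHom r) ≫ Spec.map (CommRingCat.ofHom c) = Spec.map (CommRingCat.ofHom (r.comp c))
    rw [← Spec.map_comp, ← CommRingCat.ofHom_comp])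

theorem spm_comp {A B C : Type u} [CommRing A] [CommRing B] [CommRing C] {c : k →+* A} {c' : k →+* B}
    {c'' : k →+* C} (r : A →+* B) (h : r.comp c = c') (s : B →+* C) (h' : s.comp c' = c'') :
    spm s h' ≫ spm r h = spm (s.comp r) (by rw [RingHom.comp_assoc, h, h']) := by
  apply Over.OverMorphism.ext
  show Spec.map (CommRingCat.ofHom s) ≫ Spec.map (CommRingCat.ofHom r) = Spec.map (CommRingCat.ofHom (s.comp r))
  rw [← Spec.map_comp, ← CommRingCat.ofHom_comp]

theorem spm_congr {A B : Type u} [CommRing A] [CommRing B] {c : k →+* A} {c' : k →+* B} {r r' : A →+* B}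
    {h : r.comp c = c'} {h' : r'.comp c = c'} (e : r = r') : spm r h = spm r' h' := by subst e; rfl

theorem spm_id {A : Type u} [CommRing A] {c : k →+* A} : spm (RingHom.id A) (RingHom.id_comp c) = 𝟙 _ := by
  apply Over.OverMorphism.ext
  show Spec.map (CommRingCat.ofHom (RingHom.id A)) = 𝟙 _
  rw [CommRingCat.ofHom_id, Spec.map_id]

section Dual

variable {A B : Type u} [CommRing A] [CommRing B]

/-- The first component. -/
def fstA (A : Type u) [CommRing A] : A[ε] →+* A := (fstHom A A A).toRingHom

/-- The constants. -/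
def inlA (A : Type u) [CommRing A] : A →+* A[ε] := inlHom A A

theorem fstA_apply (x : A[ε]) : fstA A x = x.fst := rfl

theorem inlA_apply (a : A) : inlA A a = inl a := rfl

theorem fstA_comp_inlA : (fstA A).comp (inlA A) = RingHom.id A := rfl

/-- Functoriality of the dual numbers. -/
def dmap (r : A →+* B) : A[ε] →+* B[ε] where
  toFun x := inl (r x.fst) + inr (r x.snd)
  map_one' := by ext <;> simp
  map_mul' x y := by ext <;> simp [TrivSqZeroExt.fst_mul, DualNumber.snd_mul] <;> ring
  map_zero' := by ext <;> simp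
  map_add' x y := by ext <;> simp

@[simp] theorem fst_dmap (r : A →+* B) (x : A[ε]) : (dmap r x).fst = r x.fst := by simp [dmap]
@[simp] theorem snd_dmap (r : A →+* B) (x : A[ε]) : (dmap r x).snd = r x.snd := by simp [dmap]

theorem dmap_inl (r : A →+* B) : (dmap r).comp (inlA A) = (inlA B).comp r :=
  RingHom.ext fun a => by
    refine TrivSqZeroExt.ext ?_ ?_ <;> simp [inlA]

theorem fst_comp_dmap (r : A →+* B) : (fstA B).comp (dmap r) = r.comp (fstA A) :=
  RingHom.ext fun x => fst_dmap r x

theorem surjective_comap_fst : Function.Surjective (PrimeSpectrum.comap (fstA A)) := fun q => by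
  refine ⟨PrimeSpectrum.comap (inlA A) q, PrimeSpectrum.ext ?_⟩
  ext x
  have hin : ∀ m : A, (inr m : A[ε]) ∈ q.asIdeal := fun m =>
    q.isPrime.mem_of_pow_mem 2 (by rw [pow_two, TrivSqZeroExt.inr_mul_inr]; exact q.asIdeal.zero_mem)
  show inlA A (fstA A x) ∈ q.asIdeal ↔ x ∈ q.asIdeal
  conv_rhs => rw [← TrivSqZeroExt.inl_fst_add_inr_snd_eq x, Ideal.add_mem_iff_left _ (hin _)]
  rfl

end Dual

variable (X : Over (Spec (CommRingCat.of k)))

/-- The constants in the functions on an open. -/
noncomputable def cst (U : X.left.Opens) : k →+* Γ(X.left, U) :=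
  ((Scheme.ΓSpecIso (CommRingCat.of k)).inv ≫ X.hom.appLE ⊤ U (fun _ _ => trivial)).hom

theorem res_cst {U V : X.left.Opens} (h : V ≤ U) :
    (X.left.presheaf.map (homOfLE h).op).hom.comp (cst X U) = cst X V := by
  unfold cst
  rw [← CommRingCat.hom_comp, Category.assoc, Scheme.Hom.appLE_map]

theorem fromSpec_over {U : X.left.Opens} (hU : IsAffineOpen U) :
    hU.fromSpec ≫ X.hom = Spec.map (CommRingCat.ofHom (cst X U)) := by
  rw [← IsAffineOpen.SpecMap_appLE_fromSpec X.hom (isAffineOpen_top _) hU (fun _ _ => trivial),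
    IsAffineOpen.fromSpec_top, Scheme.isoSpec_Spec_inv, ← Spec.map_comp]
  rfl

/-- An affine open as a point of `X`. -/
noncomputable def chartPt {U : X.left.Opens} (hU : IsAffineOpen U) : sp Γ(X.left, U) (cst X U) ⟶ X :=
  Over.homMk hU.fromSpec (fromSpec_over X hU)

theorem hom_eq_of_fromSpec {U : X.left.Opens} (hU : IsAffineOpen U) {B : Type u} [CommRing B]
    {r r' : Γ(X.left, U) →+* B}
    (h : Spec.map (CommRingCat.ofHom r) ≫ hU.fromSpec = Spec.map (CommRingCat.ofHom r') ≫ hU.fromSpec) :
    r = r' :=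
  congrArg CommRingCat.Hom.hom (Spec.map_injective ((cancel_mono hU.fromSpec).1 h))

/-- The derivation of an affine open given by a tangent vector at the origin. -/
theorem exists_lift [GrpObj X] {U : X.left.Opens} (hU : IsAffineOpen U) (v : sp k[ε] (inlA k) ⟶ X)
    (hv : spm (fstA k) (fstA_comp_inlA (A := k)) ≫ v = 1) :
    ∃ φ : Γ(X.left, U) →+* (Γ(X.left, U))[ε], (∀ a, (φ a).fst = a) ∧
      Spec.map (CommRingCat.ofHom φ) ≫ hU.fromSpec =
        ((spm (c' := (inlA _).comp (cst X U)) (inlA _) rfl ≫ chartPt X hU) * (spm (dmap (cst X U)) (dmap_inl _) ≫ v)).left ∧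
      φ.comp (cst X U) = (inlA _).comp (cst X U) := by
  let A : Type u := Γ(X.left, U)
  let θ := (spm (c' := (inlA A).comp (cst X U)) (inlA A) rfl ≫ chartPt X hU) * (spm (dmap (cst X U)) (dmap_inl _) ≫ v)
  have hz : spm (c := (inlA A).comp (cst X U)) (c' := cst X U) (fstA A)
      (by rw [← RingHom.comp_assoc, fstA_comp_inlA, RingHom.id_comp]) ≫ θ = chartPt X hU := by
    have e1 : spm (c := (inlA A).comp (cst X U)) (c' := cst X U) (fstA A)
        (by rw [← RingHom.comp_assoc, fstA_comp_inlA, RingHom.id_comp]) ≫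
        (spm (c' := (inlA A).comp (cst X U)) (inlA A) rfl ≫ chartPt X hU) = chartPt X hU := by
      rw [← Category.assoc, spm_comp, spm_congr (r' := RingHom.id A) (h' := RingHom.id_comp _) fstA_comp_inlA,
        spm_id, Category.id_comp]
    have e2 : spm (c := (inlA A).comp (cst X U)) (c' := cst X U) (fstA A)
        (by rw [← RingHom.comp_assoc, fstA_comp_inlA, RingHom.id_comp]) ≫
        (spm (dmap (cst X U)) (dmap_inl _) ≫ v) = 1 := by
      rw [← Category.assoc, spm_comp,
        spm_congr (r' := (cst X U).comp (fstA k)) (h' := by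
          rw [RingHom.comp_assoc, fstA_comp_inlA, RingHom.comp_id]) (fst_comp_dmap _),
        ← spm_comp (fstA k) (fstA_comp_inlA (A := k)) (cst X U) (RingHom.comp_id _), Category.assoc, hv,
        MonObj.comp_one]
    rw [MonObj.comp_mul, e1, e2, _root_.mul_one]
  have hrange : Set.range θ.left ⊆ Set.range hU.fromSpec := by
    rintro _ ⟨q, rfl⟩
    obtain ⟨q', rfl⟩ := surjective_comap_fst (A := A) q
    exact ⟨q', ((congrArg (fun ψ => ψ.left q') hz).symm.trans (Scheme.Hom.comp_apply _ _ _) :)⟩
  obtain ⟨φ', hφ'⟩ := Spec.map_surjective (IsOpenImmersion.lift hU.fromSpec θ.left hrange)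
  have hφ : Spec.map φ' ≫ hU.fromSpec = θ.left := by rw [hφ', IsOpenImmersion.lift_fac]
  refine ⟨φ'.hom, fun a => ?_, hφ, ?_⟩
  · have h : (fstA A).comp φ'.hom = RingHom.id A := hom_eq_of_fromSpec X hU (by
      rw [CommRingCat.ofHom_comp, CommRingCat.ofHom_hom, Spec.map_comp, Category.assoc, hφ,
        CommRingCat.ofHom_id, Spec.map_id, Category.id_comp]
      exact congrArg (fun ψ => ψ.left) hz)
    exact RingHom.congr_fun h a
  · have h : Spec.map φ' ≫ Spec.map (CommRingCat.ofHom (cst X U)) =
        Spec.map (CommRingCat.ofHom ((inlA A).comp (cst X U))) := by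
      rw [← fromSpec_over X hU, ← Category.assoc, hφ]
      exact Over.w θ
    rw [← Spec.map_comp] at h
    exact congrArg CommRingCat.Hom.hom (Spec.map_injective h)

variable [GrpObj X] (v : sp k[ε] (inlA k) ⟶ X) (hv : spm (fstA k) (fstA_comp_inlA (A := k)) ≫ v = 1)

/-- The lift `a ↦ a + ε D a`. -/
noncomputable def lift {U : X.left.Opens} (hU : IsAffineOpen U) : Γ(X.left, U) →+* (Γ(X.left, U))[ε] :=
  (exists_lift X hU v hv).choose

/-- The derivation. -/
noncomputable def D {U : X.left.Opens} (hU : IsAffineOpen U) (a : Γ(X.left, U)) : Γ(X.left, U) :=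
  (lift X v hv hU a).snd

theorem D_add {U : X.left.Opens} (hU : IsAffineOpen U) (a b : Γ(X.left, U)) :
    D X v hv hU (a + b) = D X v hv hU a + D X v hv hU b := by
  simp [D]

theorem D_mul {U : X.left.Opens} (hU : IsAffineOpen U) (a b : Γ(X.left, U)) :
    D X v hv hU (a * b) = a * D X v hv hU b + b * D X v hv hU a := by
  have h := (exists_lift X hU v hv).choose_spec.1
  change ∀ a, (lift X v hv hU a).fst = a at h
  simp only [D, map_mul, DualNumber.snd_mul, h]
  ring

theorem D_cst {U : X.left.Opens} (hU : IsAffineOpen U) (a : k) : D X v hv hU (cst X U a) = 0 := by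
  have h : lift X v hv hU (cst X U a) = inlA _ (cst X U a) :=
    RingHom.congr_fun (exists_lift X hU v hv).choose_spec.2.2 a
  simp [D, h, inlA]

theorem D_res {U V : X.left.Opens} (hU : IsAffineOpen U) (hV : IsAffineOpen V) (h : V ≤ U) (a : Γ(X.left, U)) :
    D X v hv hV (X.left.presheaf.map (homOfLE h).op a) = X.left.presheaf.map (homOfLE h).op (D X v hv hU a) := by
  let r : Γ(X.left, U) →+* Γ(X.left, V) := (X.left.presheaf.map (homOfLE h).op).hom
  have hc : r.comp (cst X U) = cst X V := res_cst X h
  have h1 : spm r hc ≫ chartPt X hU = chartPt X hV :=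
    Over.OverMorphism.ext (hU.map_fromSpec hV (homOfLE h).op)
  have h2 : spm (c := (inlA _).comp (cst X U)) (c' := (inlA _).comp (cst X V)) (dmap r)
        (by rw [← RingHom.comp_assoc, dmap_inl, RingHom.comp_assoc, hc]) ≫
      ((spm (c' := (inlA _).comp (cst X U)) (inlA _) rfl ≫ chartPt X hU) *
        (spm (dmap (cst X U)) (dmap_inl _) ≫ v)) =
      (spm (c' := (inlA _).comp (cst X V)) (inlA _) rfl ≫ chartPt X hV) *
        (spm (dmap (cst X V)) (dmap_inl _) ≫ v) := by
    rw [MonObj.comp_mul, ← Category.assoc, ← Category.assoc, spm_comp, spm_comp,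
      spm_congr (r' := (inlA _).comp r) (h' := by rw [RingHom.comp_assoc, hc]) (dmap_inl r),
      ← spm_comp r hc (inlA _) rfl, Category.assoc, h1,
      spm_congr (r := (dmap r).comp (dmap (cst X U))) (r' := dmap (cst X V)) (h' := dmap_inl _)
        (RingHom.ext fun x => TrivSqZeroExt.ext
          (by simpa using RingHom.congr_fun hc x.fst) (by simpa using RingHom.congr_fun hc x.snd))]
  have key : (dmap r).comp (lift X v hv hU) = (lift X v hv hV).comp r := by
    refine hom_eq_of_fromSpec X hU ?_
    rw [CommRingCat.ofHom_comp, CommRingCat.ofHom_comp, Spec.map_comp, Spec.map_comp, Category.assoc,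
      Category.assoc, CommRingCat.ofHom_hom, hU.map_fromSpec hV (homOfLE h).op]
    rw [show Spec.map (CommRingCat.ofHom (lift X v hv hU)) ≫ hU.fromSpec = _ from
        (exists_lift X hU v hv).choose_spec.2.1,
      show Spec.map (CommRingCat.ofHom (lift X v hv hV)) ≫ hV.fromSpec = _ from
        (exists_lift X hV v hv).choose_spec.2.1]
    exact congrArg (fun ψ => ψ.left) h2
  have := congrArg (fun x => x.snd) (RingHom.congr_fun key a)
  simp only [RingHom.comp_apply, snd_dmap] at this
  exact this.symm

/-- Translation by a `k`-point. -/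
noncomputable def trans (p : sp k (RingHom.id k) ⟶ X) : X ⟶ X :=
  (Over.homMk X.hom (by simp [sp]) ≫ p) * 𝟙 X

theorem hom_sp_id_unique {Y : Over (Spec (CommRingCat.of k))} (a b : Y ⟶ sp k (RingHom.id k)) : a = b := by
  apply Over.OverMorphism.ext
  have ha := Over.w a
  have hb := Over.w b
  simp [sp] at ha hb
  rw [ha, hb]

theorem comp_trans {Y : Over (Spec (CommRingCat.of k))} (a : Y ⟶ X) (b : Y ⟶ sp k (RingHom.id k))
    (p : sp k (RingHom.id k) ⟶ X) : a ≫ trans X p = (b ≫ p) * a := by
  rw [trans, MonObj.comp_mul, Category.comp_id, ← Category.assoc,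
    hom_sp_id_unique (a ≫ Over.homMk X.hom (by simp [sp])) b]

theorem trans_comp_inv (p : sp k (RingHom.id k) ⟶ X) : trans X p ≫ trans X p⁻¹ = 𝟙 X := by
  rw [comp_trans X (trans X p) (Over.homMk X.hom (by simp [sp])) p⁻¹, trans, ← _root_.mul_assoc, ← MonObj.comp_mul,
    inv_mul_cancel, MonObj.comp_one, _root_.one_mul]

instance isIso_trans (p : sp k (RingHom.id k) ⟶ X) : IsIso (trans X p) :=
  ⟨trans X p⁻¹, trans_comp_inv X p, by simpa using trans_comp_inv X p⁻¹⟩

/-- Evaluation of the derivation at a rational point. -/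
theorem dmap_lift {U : X.left.Opens} (hU : IsAffineOpen U) (e : Γ(X.left, U) →+* k)
    (he : e.comp (cst X U) = RingHom.id k) :
    Spec.map (CommRingCat.ofHom ((dmap e).comp (lift X v hv hU))) ≫ hU.fromSpec =
      (v ≫ trans X (spm e he ≫ chartPt X hU)).left := by
  have h2 : spm (c := (inlA _).comp (cst X U)) (c' := inlA k) (dmap e)
        (by rw [← RingHom.comp_assoc, dmap_inl, RingHom.comp_assoc, he, RingHom.comp_id]) ≫
      ((spm (c' := (inlA _).comp (cst X U)) (inlA _) rfl ≫ chartPt X hU) *
        (spm (dmap (cst X U)) (dmap_inl _) ≫ v)) =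
      v ≫ trans X (spm e he ≫ chartPt X hU) := by
    rw [comp_trans X v (spm (inlA k) (RingHom.comp_id _)), MonObj.comp_mul, ← Category.assoc, ← Category.assoc,
      spm_comp, spm_comp, ← Category.assoc, spm_comp]
    congr 1
    · exact congrArg (· ≫ chartPt X hU) (spm_congr (dmap_inl e))
    · rw [spm_congr (r' := RingHom.id _) (h' := RingHom.id_comp _) (RingHom.ext fun x => TrivSqZeroExt.ext
          (by simpa using RingHom.congr_fun he x.fst) (by simpa using RingHom.congr_fun he x.snd)), spm_id,
        Category.id_comp]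
  rw [CommRingCat.ofHom_comp, Spec.map_comp, Category.assoc,
    show Spec.map (CommRingCat.ofHom (lift X v hv hU)) ≫ hU.fromSpec = _ from
      (exists_lift X hU v hv).choose_spec.2.1]
  exact congrArg (fun ψ => ψ.left) h2

end Groth.Agent.AVEmb13
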