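import Groth.Agent.Lib.AVEmb13.Deriv
import Groth.Agent.Lib.AVEmb13.Core
import Mathlib.AlgebraicGeometry.AlgClosed.Basic
import Mathlib.AlgebraicGeometry.ValuativeCriterion
import Mathlib.AlgebraicGeometry.Morphisms.Proper

/-!
# Evaluation at closed points and valuative extension
-/

set_option autoImplicit false
set_option linter.style.haveILetI false
set_option backward.isDefEq.respectTransparency false
set_option backward.isDefEq.respectTransparency.types false
set_option maxHeartbeats 1000000

universe u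

open CategoryTheory CategoryTheory.Limits AlgebraicGeometry TopologicalSpace Opposite

namespace Groth.Agent.AVEmb13

variable {k : Type u} [Field k] (X : Over (Spec (CommRingCat.of k)))

/-- Evaluation at a closed point of an affine open over an algebraically closed field. -/
theorem exists_eval [IsAlgClosed k] [LocallyOfFiniteType X.hom] {U : X.left.Opens} (hU : IsAffineOpen U)
    {p : X.left} (hp : IsClosed ({p} : Set X.left)) (hpU : p ∈ U) :
    ∃ e : Γ(X.left, U) →+* k, e.comp (cst X U) = RingHom.id k ∧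
      RingHom.ker e = (hU.primeIdealOf ⟨p, hpU⟩).asIdeal ∧
      ∀ b, p ∈ X.left.basicOpen b ↔ e b ≠ 0 := by
  let s := pointOfClosedPoint X.hom p hp
  have hs : ∀ a, s a = p := pointOfClosedPoint_apply X.hom p hp
  have hrange : Set.range s ⊆ Set.range hU.fromSpec := by
    rintro _ ⟨a, rfl⟩
    rw [hs, hU.range_fromSpec]
    exact hpU
  obtain ⟨φ, hφ⟩ := Spec.map_surjective (IsOpenImmersion.lift hU.fromSpec s hrange)
  have hfac : Spec.map φ ≫ hU.fromSpec = s := by rw [hφ, IsOpenImmersion.lift_fac]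
  have he : φ.hom.comp (cst X U) = RingHom.id k := by
    have h : Spec.map φ ≫ Spec.map (CommRingCat.ofHom (cst X U)) = Spec.map (CommRingCat.ofHom (RingHom.id k)) := by
      rw [← fromSpec_over X hU, ← Category.assoc, hfac, pointOfClosedPoint_comp, CommRingCat.ofHom_id, Spec.map_id]
    rw [← Spec.map_comp] at h
    exact congrArg CommRingCat.Hom.hom (Spec.map_injective h)
  let z := Spec.map φ (IsLocalRing.closedPoint k)
  have hz : hU.fromSpec z = p := by
    rw [← hs (IsLocalRing.closedPoint k)]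
    exact (Scheme.Hom.comp_apply _ _ _).symm.trans (congrArg (fun ψ => ψ (IsLocalRing.closedPoint k)) hfac)
  have hzp : hU.primeIdealOf ⟨p, hpU⟩ = z := by
    apply hU.fromSpec.isOpenEmbedding.injective
    rw [hU.fromSpec_primeIdealOf, hz]
  have hker : RingHom.ker φ.hom = (hU.primeIdealOf ⟨p, hpU⟩).asIdeal := by
    rw [hzp]
    ext b
    show φ.hom b = 0 ↔ φ.hom b ∈ (IsLocalRing.maximalIdeal k)
    simp [IsLocalRing.mem_maximalIdeal]
  refine ⟨φ.hom, he, hker, fun b => ?_⟩
  rw [← hz, ← not_iff_not, not_not]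
  have : hU.fromSpec z ∈ X.left.basicOpen b ↔ z ∈ hU.fromSpec ⁻¹ᵁ X.left.basicOpen b := Iff.rfl
  rw [this, hU.fromSpec_preimage_basicOpen, ← hzp, ← RingHom.mem_ker, hker]
  exact not_not

variable (ζ : X.left)

/-- The constants in a residue field. -/
noncomputable def cstRes : k →+* X.left.residueField ζ :=
  (Spec.preimage (X.left.fromSpecResidueField ζ ≫ X.hom)).hom

theorem specMap_evaluation {U : X.left.Opens} (hU : IsAffineOpen U) (hζ : ζ ∈ U) :
    Spec.map (X.left.evaluation U ζ hζ) ≫ hU.fromSpec = X.left.fromSpecResidueField ζ := by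
  rw [Scheme.evaluation, Spec.map_comp, Category.assoc, Scheme.fromSpecResidueField,
    ← hU.fromSpecStalk_eq_fromSpecStalk hζ]
  rfl

theorem evaluation_cst {U : X.left.Opens} (hU : IsAffineOpen U) (hζ : ζ ∈ U) (a : k) :
    X.left.evaluation U ζ hζ (cst X U a) = cstRes X ζ a := by
  have h : Spec.map (X.left.evaluation U ζ hζ) ≫ Spec.map (CommRingCat.ofHom (cst X U)) =
      Spec.map (Spec.preimage (X.left.fromSpecResidueField ζ ≫ X.hom)) := by
    rw [← fromSpec_over X hU, ← Category.assoc, specMap_evaluation, Spec.map_preimage]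
  rw [← Spec.map_comp] at h
  exact ConcreteCategory.congr_hom (Spec.map_injective h) a

/-- A valuation ring of a residue field containing the constants has a centre. -/
theorem exists_centre [IsProper X.hom] (V : ValuationSubring (X.left.residueField ζ))
    (hV : ∀ a, cstRes X ζ a ∈ V) :
    ∃ p : X.left, IsClosed ({p} : Set X.left) ∧ ∀ {U : X.left.Opens} (_ : IsAffineOpen U), p ∈ U →
      ∃ hζ : ζ ∈ U, (∀ a, X.left.evaluation U ζ hζ a ∈ V) ∧
        ∀ b, p ∈ X.left.basicOpen b → (X.left.evaluation U ζ hζ b)⁻¹ ∈ V ∧ X.left.evaluation U ζ hζ b ≠ 0 := by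
  let κ : Type u := X.left.residueField ζ
  let i₁ : Spec (CommRingCat.of κ) ⟶ X.left := X.left.fromSpecResidueField ζ
  let i₂ : Spec (CommRingCat.of V) ⟶ Spec (CommRingCat.of k) :=
    Spec.map (CommRingCat.ofHom ((cstRes X ζ).codRestrict V.toSubring hV))
  have hsq : CommSq i₁ (Spec.map (CommRingCat.ofHom (algebraMap V κ))) X.hom i₂ := ⟨by
    show i₁ ≫ X.hom = _
    rw [← Spec.map_comp]
    exact (Spec.map_preimage _).symm⟩
  have hex : ValuativeCriterion.Existence X.hom :=
    (UniversallyClosed.eq_valuativeCriterion ▸ (inferInstance : UniversallyClosed X.hom) :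
      (ValuativeCriterion.Existence ⊓ @QuasiCompact) X.hom).1
  obtain ⟨l, hl₁, -⟩ := (hex { R := V, K := κ, i₁ := i₁, i₂ := i₂, commSq := hsq }).exists_lift
  haveI : IsProper X.hom := inferInstance
  haveI : CompactSpace X.left := QuasiCompact.compactSpace_of_compactSpace X.hom
  obtain ⟨p, hpcl, hp⟩ := (isClosed_closure (s := {l (IsLocalRing.closedPoint V)})).exists_closed_singleton
    ⟨_, subset_closure rfl⟩
  refine ⟨p, hp, fun {U} hU hpU => ?_⟩
  have hq : l (IsLocalRing.closedPoint V) ∈ U := (specializes_iff_mem_closure.2 hpcl).mem_open U.isOpen hpU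
  have htop : ∀ z, l z ∈ U := fun z =>
    (((IsLocalRing.specializes_closedPoint z).map l.continuous).mem_open U.isOpen hq)
  obtain ⟨ψ, hψ⟩ := Spec.map_surjective (IsOpenImmersion.lift hU.fromSpec l
    (by rintro _ ⟨z, rfl⟩; rw [hU.range_fromSpec]; exact htop z))
  have hfac : Spec.map ψ ≫ hU.fromSpec = l := by rw [hψ, IsOpenImmersion.lift_fac]
  have hζ : ζ ∈ U := by
    rw [← Scheme.fromSpecResidueField_apply ζ (IsLocalRing.closedPoint κ)]
    rw [show X.left.fromSpecResidueField ζ = _ from hl₁.symm, Scheme.Hom.comp_apply]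
    exact htop _
  have hcomp : ψ ≫ CommRingCat.ofHom (algebraMap V κ) = X.left.evaluation U ζ hζ := by
    refine Spec.map_injective ((cancel_mono hU.fromSpec).1 ?_)
    rw [specMap_evaluation, Spec.map_comp, Category.assoc, hfac]
    exact hl₁
  refine ⟨hζ, fun a => ?_, fun b hb => ?_⟩
  · rw [← hcomp]
    exact (ψ a).2
  · have hqb : l (IsLocalRing.closedPoint V) ∈ X.left.basicOpen b :=
      (specializes_iff_mem_closure.2 hpcl).mem_open (X.left.basicOpen b).isOpen hb
    rw [← hfac, Scheme.Hom.comp_apply] at hqb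
    have h2 : Spec.map ψ (IsLocalRing.closedPoint V) ∈ hU.fromSpec ⁻¹ᵁ X.left.basicOpen b := hqb
    rw [hU.fromSpec_preimage_basicOpen] at h2
    have hu : IsUnit (ψ b) := by
      by_contra hnu
      exact h2 ((IsLocalRing.mem_maximalIdeal (ψ b)).2 hnu)
    rw [← hcomp]
    obtain ⟨u, hu⟩ := hu
    show (algebraMap V κ (ψ b))⁻¹ ∈ V ∧ algebraMap V κ (ψ b) ≠ 0
    rw [← hu]
    refine ⟨?_, (u.map (algebraMap V κ).toMonoidHom).ne_zero⟩
    rw [← map_units_inv (algebraMap V κ) u]
    exact (u⁻¹ : Units V).1.2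

end Groth.Agent.AVEmb13
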