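import Groth.Agent.Lib.AVEmb13.Tangent
import Groth.Agent.Lib.AVEmb13.Chart
import Groth.Agent.Lib.AVEmb13.Points
import Groth.Agent.Lib.SmDim19.RelDimVariety
import Groth.Agent.Lib.GeomRed18.Smooth
import Groth.Agent.Lib.SecDiv18.Peel
import Groth.Agent.Lib.GrpdB.Section

/-!
# An abelian variety of dimension `g` is not embedded in a projective space of dimension less than `2g`

The tangent plane at `x` of the embedded variety contains a fixed point `x₀` of the variety on a positive
dimensional closed subset; the coefficients in the invariant frame are then constant, which is impossible.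
-/

set_option autoImplicit false
set_option linter.style.haveILetI false
set_option backward.isDefEq.respectTransparency false
set_option backward.isDefEq.respectTransparency.types false
set_option maxHeartbeats 2000000

universe u

open CategoryTheory CategoryTheory.Limits AlgebraicGeometry TopologicalSpace Opposite
open scoped DualNumber MonObj

namespace Groth.Agent.AVEmb13

section Algebra

variable {R : Type u} [CommRing R]

/-- A map killing constants and satisfying the pointed Leibniz rule vanishes on what the generators generate. -/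
theorem eq_zero_of_generators {k A : Type u} [Field k] [CommRing A] (e : A →+* k) (L : A → k)
    (hadd : ∀ a b, L (a + b) = L a + L b) (hmul : ∀ a b, L (a * b) = e a * L b + e b * L a)
    (S : Set A) (hS : ∀ a ∈ S, L a = 0) (h : Subring.closure S = ⊤) (a : A) : L a = 0 := by
  have h0 : L 0 = 0 := by simpa using hadd 0 0
  have h1 : L 1 = 0 := by simpa using hmul 1 1
  refine Subring.closure_induction (p := fun z _ => L z = 0) (fun z hz => hS z hz) h0 h1
    (fun a b _ _ ha hb => by rw [hadd, ha, hb, add_zero]) (fun a _ ha => ?_)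
    (fun a b _ _ ha hb => by rw [hmul, ha, hb]; simp) (h ▸ Subring.mem_top a : a ∈ Subring.closure S)
  have := hadd a (-a)
  rw [add_neg_cancel, h0, ha, zero_add] at this
  exact this.symm

end Algebra

variable {k : Type u} [Field k] [IsAlgClosed k]

theorem two_mul_dim_le (X : Over (Spec (CommRingCat.of k))) [GrpObj X] [IsProper X.hom] [Smooth X.hom]
    [IrreducibleSpace X.left] (g : ℕ) (hg : topologicalKrullDim ↥X.left = g)
    (n : ℕ) (f : X.left ⟶ CohB1.ProjSpace n k) [IsClosedImmersion f]
    (hf : f ≫ CohB1.ProjSpace.toSpec n k = X.hom) : 2 * g ≤ n := by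
  classical
  by_contra hlt
  rw [not_le] at hlt
  haveI : IsLocallyNoetherian X.left := LocallyOfFiniteType.isLocallyNoetherian X.hom
  letI : X.left.Over (Spec (CommRingCat.of k)) := ⟨X.hom⟩
  haveI : LocallyOfFinitePresentation (X.left ↘ Spec (CommRingCat.of k)) :=
    inferInstanceAs (LocallyOfFinitePresentation X.hom)
  obtain ⟨U, y, hU, hcov, hy1, hrel, hgen⟩ := exists_charts X f hf
  let pe := (1 : sp k (RingHom.id k) ⟶ X).left (IsLocalRing.closedPoint k)
  have hpecl : IsClosed ({pe} : Set X.left) := by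
    have hsec : (1 : sp k (RingHom.id k) ⟶ X).left ≫ X.hom = 𝟙 _ := by
      rw [Over.w]; simp [sp]
    haveI := GrpdB.isClosedImmersion_of_section X.hom _ hsec
    have : ({pe} : Set X.left) = Set.range (1 : sp k (RingHom.id k) ⟶ X).left := by
      refine Set.Subset.antisymm (by rintro _ rfl; exact ⟨_, rfl⟩) ?_
      rintro _ ⟨w, rfl⟩
      exact congrArg _ (Subsingleton.elim (α := Spec (CommRingCat.of k)) _ _)
    rw [this]
    exact (1 : sp k (RingHom.id k) ⟶ X).left.isClosedEmbedding.isClosed_range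
  have hdimpe : ringKrullDim (X.left.presheaf.stalk pe) = g := SmDim19.ringKrullDim_stalk_closed X.hom hg hpecl
  have hsp : (IsLocalRing.maximalIdeal (X.left.presheaf.stalk
      ((1 : sp k (RingHom.id k) ⟶ X).left (IsLocalRing.closedPoint k)))).spanFinrank = g := by
    haveI := GeomRed.isRegularLocalRing_of_mem_smoothLocus (k := k) (X := X.left) (x := pe)
      (by
        show pe ∈ X.hom.smoothLocus
        rw [Scheme.Hom.smoothLocus_eq_top]; trivial)
    have h := IsRegularLocalRing.spanFinrank_maximalIdeal (R := X.left.presheaf.stalk pe)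
    rw [hdimpe] at h
    exact_mod_cast h
  have hex := exists_derivs X
  rw [hsp] at hex
  obtain ⟨v, hv, hspan⟩ := hex
  let Dv := fun (i : Fin g) {W : X.left.Opens} (hW : IsAffineOpen W) (a : Γ(X.left, W)) => D X (v i) (hv i) hW a
  have hD1 : ∀ (i : Fin g) {W : X.left.Opens} (hW : IsAffineOpen W), Dv i hW 1 = 0 := fun i W hW => by
    have := D_mul X (v i) (hv i) hW 1 1
    simpa [Dv] using this
  -- independent columns at every closed point
  have hminor : ∀ (l : Fin (n + 1)) (e : Γ(X.left, U l) →+* k), e.comp (cst X (U l)) = RingHom.id k →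
      ∃ J : Fin g → Fin (n + 1), e (Matrix.of fun i j => Dv i (hU l) (y l (J j))).det ≠ 0 := by
    intro l e he
    obtain ⟨J, hJ⟩ := exists_minor (fun i j => e (Dv i (hU l) (y l j))) fun x hx => hspan (hU l) e he x fun h => by
      refine eq_zero_of_generators e (fun a => ∑ i, x i * e (Dv i (hU l) a)) (fun a b => ?_) (fun a b => ?_)
        _ ?_ (hgen l) h
      · simp only [Dv, D_add, map_add, mul_add, Finset.sum_add_distrib]
      · simp only [Dv, D_mul, map_add, map_mul, mul_add, Finset.sum_add_distrib, Finset.mul_sum]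
        congr 1 <;> exact Finset.sum_congr rfl fun i _ => by ring
      · rintro _ (⟨c, rfl⟩ | ⟨j, rfl⟩)
        · simp [Dv, D_cst]
        · exact hx j
    refine ⟨J, ?_⟩
    rw [RingHom.map_det]
    exact hJ
  -- the chart at the origin and the curve of tangency
  obtain ⟨l₀, hl₀⟩ := hcov pe
  let A : Type u := Γ(X.left, U l₀)
  obtain ⟨e₀, he₀, hker₀, -⟩ := exists_eval X (hU l₀) hpecl hl₀
  let a : Fin (n + 1) → k := fun j => e₀ (y l₀ j)
  have ha₀ : a l₀ = 1 := by simp [a, hy1]
  let w : Fin (n + 1) → A := fun j => cst X (U l₀) (a j) - cst X (U l₀) (a l₀) * y l₀ j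
  have hw : ∀ j, e₀ (w j) = 0 := fun j => by
    have := fun c => RingHom.congr_fun he₀ c
    simp only [RingHom.comp_apply, RingHom.id_apply] at this
    simp [w, map_sub, map_mul, this, ha₀, a]
  obtain ⟨J, hJ⟩ := hminor l₀ e₀ he₀
  let M : Matrix (Fin g) (Fin g) A := Matrix.of fun i j => Dv i (hU l₀) (y l₀ (J j))
  let q : Fin g → A := Matrix.vecMul (fun j => w (J j)) M.adjugate
  let h : Fin (n + 1) → A := fun j => M.det * w j - ∑ i, q i * Dv i (hU l₀) (y l₀ j)
  let T : Finset (Fin (n + 1)) := insert l₀ (Finset.univ.image J)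
  have hhT : ∀ j ∈ T, h j = 0 := by
    intro j hj
    rcases Finset.mem_insert.1 hj with rfl | hj
    · simp [h, w, ha₀, hy1, hD1]
    · obtain ⟨i', -, rfl⟩ := Finset.mem_image.1 hj
      rw [sub_eq_zero]
      exact (adjugate_solution M (fun j => w (J j)) i').symm
  have hJinj : Function.Injective J := fun i j hij => by
    by_contra hne
    exact hJ (by rw [RingHom.map_det]; exact Matrix.det_zero_of_column_eq hne fun t => by simp [hij])
  have hl₀J : l₀ ∉ Finset.univ.image J := by
    rintro hmem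
    obtain ⟨i, -, hi⟩ := Finset.mem_image.1 hmem
    exact hJ (by
      rw [RingHom.map_det]
      exact Matrix.det_eq_zero_of_column_eq_zero i fun t => by simp [hi, hy1, hD1])
  let S : Finset A := Tᶜ.image h
  have hScard : S.card < g := by
    refine lt_of_le_of_lt Finset.card_image_le ?_
    rw [Finset.card_compl, Fintype.card_fin, Finset.card_insert_of_notMem hl₀J,
      Finset.card_image_of_injective _ hJinj, Finset.card_univ, Fintype.card_fin]
    omega
  have hq : ∀ i, e₀ (q i) = 0 := fun i => by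
    simp only [q, RingHom.map_vecMul]
    simp [Function.comp_def, hw, Matrix.vecMul, dotProduct]
  have hSm : (↑S : Set A) ⊆ RingHom.ker e₀ := by
    intro z hz
    obtain ⟨j, -, rfl⟩ := Finset.mem_image.1 hz
    show e₀ (h j) = 0
    simp only [h, map_sub, map_sum, map_mul]
    rw [show e₀ (w j) = 0 from hw j, mul_zero, Finset.sum_eq_zero (fun i _ => ?_), sub_zero]
    rw [show e₀ (q i) = 0 from hq i, zero_mul]
  haveI : IsNoetherianRing A := IsLocallyNoetherian.component_noetherian ⟨U l₀, hU l₀⟩
  have hheight : (RingHom.ker e₀).height = (g : ℕ∞) := by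
    have := SecDiv.ringKrullDim_stalk_eq_height (hU l₀) hl₀
    rw [hdimpe, ← hker₀] at this
    exact_mod_cast this.symm
  haveI : (RingHom.ker e₀).IsPrime := RingHom.ker_isPrime e₀
  obtain ⟨P, hP, hSP, hPle, hPne⟩ := exists_prime_ne (RingHom.ker e₀) S hSm
    (by rw [hheight]; exact_mod_cast hScard)
  let ζ : X.left := (hU l₀).fromSpec ⟨P, hP⟩
  have hζ₀ : ζ ∈ U l₀ := (hU l₀).range_fromSpec.le ⟨_, rfl⟩
  let φ₀ : A →+* X.left.residueField ζ := (X.left.evaluation (U l₀) ζ hζ₀).hom
  have hφ₀ : ∀ b, φ₀ b = 0 ↔ b ∈ P := fun b => by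
    rw [← not_iff_not]
    refine (Scheme.evaluation_ne_zero_iff_mem_basicOpen X.left ζ hζ₀ b).trans ?_
    show (⟨P, hP⟩ : PrimeSpectrum A) ∈ (hU l₀).fromSpec ⁻¹ᵁ X.left.basicOpen b ↔ _
    rw [(hU l₀).fromSpec_preimage_basicOpen]
    rfl
  have hdet : φ₀ M.det ≠ 0 := fun hz => hJ ((hφ₀ _).1 hz |> fun hm => RingHom.mem_ker.1 (hPle hm))
  let c : Fin g → X.left.residueField ζ := fun i => φ₀ (q i) / φ₀ M.det
  let κc := cstRes X ζ
  let Y : Fin (n + 1) → X.left.residueField ζ := fun j => φ₀ (y l₀ j)
  have hcst₀ : ∀ b, φ₀ (cst X (U l₀) b) = κc b := fun b => evaluation_cst X ζ (hU l₀) hζ₀ b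
  have hc : ∀ j, κc (a j) - κc (a l₀) * Y j = ∑ i, c i * φ₀ (Dv i (hU l₀) (y l₀ j)) := by
    intro j
    have hj : φ₀ (h j) = 0 := by
      by_cases hj : j ∈ T
      · rw [hhT j hj, map_zero]
      · exact (hφ₀ _).2 (hSP (Finset.mem_image.2 ⟨j, Finset.mem_compl.2 hj, rfl⟩))
    simp only [h, map_sub, map_mul, map_sum, sub_eq_zero, w, hcst₀] at hj
    calc κc (a j) - κc (a l₀) * Y j = (φ₀ M.det * (κc (a j) - κc (a l₀) * Y j)) / φ₀ M.det := by
          rw [mul_div_cancel_left₀ _ hdet]
      _ = _ := by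
          simp only [Y] at hj ⊢
          rw [hj, Finset.sum_div]
          exact Finset.sum_congr rfl fun i _ => by simp only [c]; ring
  -- the coefficients times the coordinates lie in every valuation ring
  have hin : ∀ i j, c i * Y j ∈ κc.range := by
    intro i j
    refine mem_range_of_forall_valuation κc _ fun V hV => ?_
    obtain ⟨p, hp, hcentre⟩ := exists_centre X ζ V hV
    obtain ⟨l, hpl⟩ := hcov p
    obtain ⟨hζl, hmemV, hinvV⟩ := hcentre (hU l) hpl
    obtain ⟨e, he, -, hbasic⟩ := exists_eval X (hU l) hp hpl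
    obtain ⟨J', hJ'⟩ := hminor l e he
    let φ := (X.left.evaluation (U l) ζ hζl).hom
    have hcst : ∀ b, φ (cst X (U l) b) = κc b := fun b => evaluation_cst X ζ (hU l) hζl b
    obtain ⟨W, hW, hζW, hWle⟩ := exists_isAffineOpen_mem_and_subset (U := U l₀ ⊓ U l) (x := ζ) ⟨hζ₀, hζl⟩
    have hl : W ≤ U l₀ := fun x hx => (hWle hx).1
    have hl' : W ≤ U l := fun x hx => (hWle hx).2
    let ψ : Γ(X.left, W) →+* X.left.residueField ζ := (X.left.evaluation W ζ hζW).hom
    have hψ₀ : ∀ b, ψ (X.left.presheaf.map (homOfLE hl).op b) = φ₀ b := fun b =>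
      congrArg (X.left.residue ζ) (X.left.presheaf.germ_res_apply (homOfLE hl) ζ hζW b)
    have hψ : ∀ b, ψ (X.left.presheaf.map (homOfLE hl').op b) = φ b := fun b =>
      congrArg (X.left.residue ζ) (X.left.presheaf.germ_res_apply (homOfLE hl') ζ hζW b)
    have hprod : ∀ j, Y l * φ (y l j) = Y j := fun j => by
      have h1 := congrArg ψ (hrel l₀ l W hl hl' j)
      rwa [map_mul, hψ₀, hψ, hψ₀] at h1
    have hleib : ∀ i j, φ₀ (Dv i (hU l₀) (y l₀ j)) =
        φ (y l j) * φ₀ (Dv i (hU l₀) (y l₀ l)) + Y l * φ (Dv i (hU l) (y l j)) := fun i j => by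
      have h1 := congrArg (D X (v i) (hv i) hW) (hrel l₀ l W hl hl' j)
      rw [D_mul, D_res X (v i) (hv i) (hU l₀) hW hl, D_res X (v i) (hv i) (hU l) hW hl',
        D_res X (v i) (hv i) (hU l₀) hW hl] at h1
      have h2 := congrArg ψ h1
      rw [map_add, map_mul, map_mul, hψ₀, hψ, hψ, hψ₀, hψ₀] at h2
      rw [← h2]
      ring
    have heq : ∀ j, κc (a j) - κc (a l) * φ (y l j) = ∑ i, (Y l * c i) * φ (Dv i (hU l) (y l j)) := by
      intro j
      have hj := hc j
      have hl2 := hc l
      simp only [hleib _ j, mul_add, Finset.sum_add_distrib] at hj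
      rw [show ∑ i, c i * (φ (y l j) * φ₀ (Dv i (hU l₀) (y l₀ l))) =
          φ (y l j) * ∑ i, c i * φ₀ (Dv i (hU l₀) (y l₀ l)) from by
        rw [Finset.mul_sum]; exact Finset.sum_congr rfl fun i _ => by ring, ← hl2, ← hprod j] at hj
      rw [show ∑ i, (Y l * c i) * φ (Dv i (hU l) (y l j)) = ∑ i, c i * (Y l * φ (Dv i (hU l) (y l j))) from
        Finset.sum_congr rfl fun i _ => by ring]
      linear_combination hj
    let M' : Matrix (Fin g) (Fin g) Γ(X.left, U l) := Matrix.of fun i j => Dv i (hU l) (y l (J' j))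
    let w' : Fin g → Γ(X.left, U l) := fun j => cst X (U l) (a (J' j)) - cst X (U l) (a l) * y l (J' j)
    have hsol := mul_eq_of_solution φ M' w' (fun i => Y l * c i)
      (fun j => (heq (J' j)).symm.trans (by simp [w', map_sub, map_mul, hcst])) i
    obtain ⟨hinv, hne⟩ := hinvV M'.det ((hbasic _).2 hJ')
    have hval : Y l * c i = (φ M'.det)⁻¹ * φ (Matrix.vecMul w' M'.adjugate i) := by
      rw [← hsol, ← mul_assoc, inv_mul_cancel₀ hne, one_mul]
    rw [← hprod j, show c i * (Y l * φ (y l j)) = (Y l * c i) * φ (y l j) from by ring, hval]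
    exact V.mul_mem _ _ (V.mul_mem _ _ hinv (hmemV _)) (hmemV _)
  -- hence all coordinates are constant on the curve
  have hY : ∀ j, Y j ∈ κc.range := by
    intro j
    by_cases hc0 : ∀ i, c i = 0
    · refine ⟨a j, ?_⟩
      have := hc j
      simp only [hc0, zero_mul, Finset.sum_const_zero, ha₀, map_one, one_mul, sub_eq_zero] at this
      exact this
    · push Not at hc0
      obtain ⟨i, hi⟩ := hc0
      obtain ⟨s, hs⟩ := hin i j
      obtain ⟨t, ht⟩ := hin i l₀
      rw [show Y l₀ = 1 from by simp [Y, hy1], mul_one] at ht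
      refine ⟨s / t, ?_⟩
      rw [map_div₀, hs, ht, mul_div_cancel_left₀ _ hi]
  have hconst : ∀ b, φ₀ b ∈ κc.range := fun b => by
    have hb : b ∈ Subring.closure (Set.range (cst X (U l₀)) ∪ Set.range (y l₀)) := hgen l₀ ▸ Subring.mem_top b
    refine (Subring.closure_le (t := κc.range.comap φ₀)).2 ?_ hb
    rintro _ (⟨b, rfl⟩ | ⟨j, rfl⟩)
    · exact ⟨b, (hcst₀ b).symm⟩
    · exact hY j
  refine hPne (le_antisymm hPle fun b hb => ?_)
  obtain ⟨s, hs⟩ := hconst b
  have h0 : φ₀ (b - cst X (U l₀) s) = 0 := by rw [map_sub, hcst₀, hs, sub_self]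
  have hs0 : s = 0 := by
    have h1 := RingHom.mem_ker.1 (hPle ((hφ₀ _).1 h0))
    rw [map_sub, RingHom.mem_ker.1 hb, zero_sub, neg_eq_zero] at h1
    exact (RingHom.congr_fun he₀ s).symm.trans h1
  rw [hs0, map_zero, sub_zero] at h0
  exact (hφ₀ _).1 h0

end Groth.Agent.AVEmb13
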