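import Groth.Agent.Lib.AVEmb13.Deriv
import Mathlib.Algebra.Module.SpanRank
import Mathlib.AlgebraicGeometry.Morphisms.FiniteType
import Mathlib.RingTheory.Ideal.Quotient.Operations

/-!
# Tangent vectors at the origin of a regular group scheme span at every rational point
-/

set_option autoImplicit false
set_option linter.style.haveILetI false
set_option backward.isDefEq.respectTransparency false
set_option backward.isDefEq.respectTransparency.types false
set_option maxHeartbeats 1000000

universe u

open CategoryTheory CategoryTheory.Limits AlgebraicGeometry TopologicalSpace Opposite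
open scoped MonoidalCategory DualNumber
open TrivSqZeroExt

namespace Groth.Agent.AVEmb13

/-- A residue map of a local ring with generators of its maximal ideal gives dual derivations. -/
theorem exists_dual_derivations {k R : Type u} [Field k] [CommRing R] [IsLocalRing R] [IsNoetherianRing R]
    (c : k →+* R) (ev : R →+* k) (hev : ev.comp c = RingHom.id k) [IsLocalHom ev] :
    ∃ δ : Fin (IsLocalRing.maximalIdeal R).spanFinrank → R → k,
      (∀ i a b, δ i (a + b) = δ i a + δ i b) ∧ (∀ i a b, δ i (a * b) = ev a * δ i b + ev b * δ i a) ∧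
      (∀ i a, δ i (c a) = 0) ∧
      ∀ x : Fin (IsLocalRing.maximalIdeal R).spanFinrank → k, (∀ a, ∑ i, x i * δ i a = 0) → x = 0 := by
  classical
  set m := IsLocalRing.maximalIdeal R
  obtain ⟨s, hs, hspan⟩ := Submodule.FG.exists_span_finset_card_eq_spanFinrank (IsNoetherian.noetherian m)
  let t : Fin m.spanFinrank → R := fun i => (s.equivFinOfCardEq hs).symm i
  have hrange : Set.range t = (s : Set R) := by
    ext y
    refine ⟨?_, fun hy => ⟨s.equivFinOfCardEq hs ⟨y, hy⟩, by simp [t]⟩⟩
    rintro ⟨i, rfl⟩
    exact ((s.equivFinOfCardEq hs).symm i).2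
  have hm : m = Ideal.span (Set.range t) := by rw [hrange]; exact hspan.symm
  have hker : ∀ a : R, ev a = 0 ↔ a ∈ m := fun a => by
    rw [IsLocalRing.mem_maximalIdeal, mem_nonunits_iff]
    exact ⟨fun h hu => not_isUnit_zero (h ▸ hu.map ev), fun h =>
      by_contra fun h' => h (isUnit_of_map_unit ev a (isUnit_iff_ne_zero.2 h'))⟩
  have hmin : ∀ r : Fin m.spanFinrank → R, ∑ i, r i * t i = 0 → ∀ i, ev (r i) = 0 := by
    intro r hr i
    by_contra hne
    obtain ⟨w, hw⟩ := (isUnit_of_map_unit ev _ (isUnit_iff_ne_zero.2 hne)).exists_left_inv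
    have hmem : t i ∈ Ideal.span (t '' ↑(Finset.univ.erase i)) := by
      have h1 : t i = - ∑ j ∈ Finset.univ.erase i, (w * r j) * t j := by
        rw [← Finset.add_sum_erase _ _ (Finset.mem_univ i)] at hr
        calc t i = w * (r i * t i) := by rw [← mul_assoc, hw, one_mul]
          _ = w * (- ∑ j ∈ Finset.univ.erase i, r j * t j) := by rw [eq_neg_of_add_eq_zero_left hr]
          _ = _ := by simp only [mul_neg, Finset.mul_sum, mul_assoc]
      rw [h1]
      exact neg_mem (sum_mem fun j hj => Ideal.mul_mem_left _ _ (Ideal.subset_span ⟨j, hj, rfl⟩))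
    have hle : m = Ideal.span (t '' ↑(Finset.univ.erase i)) := by
      refine le_antisymm ?_ (le_of_le_of_eq (Ideal.span_mono fun y hy => by obtain ⟨j, -, rfl⟩ := hy; exact ⟨j, rfl⟩) hm.symm)
      refine hm.trans_le (Ideal.span_le.2 ?_)
      rintro _ ⟨j, rfl⟩
      rcases eq_or_ne j i with rfl | hj
      · exact hmem
      · exact Ideal.subset_span ⟨j, by simpa using hj, rfl⟩
    have h2 : m.spanFinrank ≤ (t '' ↑(Finset.univ.erase i)).ncard := by
      refine (congrArg Submodule.spanFinrank hle).trans_le ?_
      exact Submodule.spanFinrank_span_le_ncard_of_finite (Set.toFinite _)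
    have h3 := h2.trans ((Set.ncard_image_le (Set.toFinite _)).trans (Set.ncard_coe_finset _).le)
    rw [Finset.card_erase_of_mem (Finset.mem_univ i), Finset.card_univ, Fintype.card_fin] at h3
    have := i.2
    omega
  have hdec : ∀ a : R, ∃ r : Fin m.spanFinrank → R, ∑ i, r i * t i = a - c (ev a) := fun a => by
    have h : a - c (ev a) ∈ m := (hker _).1 (by
      rw [map_sub, ← RingHom.comp_apply, hev]; exact sub_self _)
    rw [hm] at h
    exact Ideal.mem_span_range_iff_exists_fun.1 h
  choose r hr using hdec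
  have huniq : ∀ a (r' : Fin m.spanFinrank → R), ∑ i, r' i * t i = a - c (ev a) → ∀ i, ev (r' i) = ev (r a i) := by
    intro a r' h i
    have := hmin (fun i => r' i - r a i) (by
      simp only [sub_mul, Finset.sum_sub_distrib]; rw [h, hr, sub_self]) i
    rwa [map_sub, sub_eq_zero] at this
  have hevc : ∀ y : k, ev (c y) = y := fun y => RingHom.congr_fun hev y
  refine ⟨fun i a => ev (r a i), fun i a b => ?_, fun i a b => ?_, fun i y => ?_, fun x hx => ?_⟩
  · rw [← map_add]
    refine (huniq (a + b) (fun i => r a i + r b i) ?_ i).symm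
    simp only [add_mul, Finset.sum_add_distrib, hr, map_add]
    ring
  · show ev (r (a * b) i) = ev a * ev (r b i) + ev b * ev (r a i)
    rw [← huniq (a * b) (fun i => a * r b i + c (ev b) * r a i) ?_ i, map_add, map_mul, map_mul, hevc]
    simp only [add_mul, Finset.sum_add_distrib, mul_assoc, ← Finset.mul_sum, hr, map_mul]
    ring
  · show ev (r (c y) i) = 0
    rw [← huniq (c y) (fun _ => 0) (by simp [hevc]) i, map_zero]
  · funext j
    have hrj : ∀ i, ev (r (t j) i) = if i = j then 1 else 0 := fun i => by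
      have htm : ev (t j) = 0 := (hker _).2 (hm ▸ Ideal.subset_span ⟨j, rfl⟩)
      rw [← huniq (t j) (fun i => if i = j then 1 else 0) (by simp [htm]) i, apply_ite ev, map_one, map_zero]
    have := hx (t j)
    simpa [hrj] using this

open MonObj

variable {k : Type u} [Field k]

/-- Tangent vectors at the origin whose derivations span at every rational point of every affine open. -/
theorem exists_derivs (X : Over (Spec (CommRingCat.of k))) [GrpObj X] [IsLocallyNoetherian X.left] :
    ∃ v : Fin (IsLocalRing.maximalIdeal (X.left.presheaf.stalk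
        ((1 : sp k (RingHom.id k) ⟶ X).left (IsLocalRing.closedPoint k)))).spanFinrank → (sp k[ε] (inlA k) ⟶ X),
      ∃ hv : ∀ i, spm (fstA k) (fstA_comp_inlA (A := k)) ≫ v i = 1,
      ∀ {U : X.left.Opens} (hU : IsAffineOpen U) (e : Γ(X.left, U) →+* k), e.comp (cst X U) = RingHom.id k →
        ∀ x : Fin _ → k, (∀ h, ∑ i, x i * e (D X (v i) (hv i) hU h) = 0) → x = 0 := by
  classical
  let one1 : sp k (RingHom.id k) ⟶ X := 1
  let pe := one1.left (IsLocalRing.closedPoint k)
  obtain ⟨W, hW, hpW, -⟩ := exists_isAffineOpen_mem_and_subset (U := (⊤ : X.left.Opens)) (x := pe) trivial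
  let O : Type u := X.left.presheaf.stalk pe
  let c0 : k →+* O := (X.left.presheaf.germ W pe hpW).hom.comp (cst X W)
  let ev : O →+* k := (Scheme.stalkClosedPointTo one1.left).hom
  have hev : Spec.map (Scheme.stalkClosedPointTo one1.left) ≫ X.left.fromSpecStalk pe = one1.left :=
    Scheme.Spec_stalkClosedPointTo_fromSpecStalk _
  have hstr : X.left.fromSpecStalk pe ≫ X.hom = Spec.map (CommRingCat.ofHom c0) := by
    rw [← hW.fromSpecStalk_eq_fromSpecStalk hpW, IsAffineOpen.fromSpecStalk, Category.assoc, fromSpec_over,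
      ← Spec.map_comp]
    rfl
  have hev0 : ev.comp c0 = RingHom.id k := by
    have h := Over.w one1
    rw [← hev, Category.assoc, hstr, ← Spec.map_comp] at h
    exact congrArg CommRingCat.Hom.hom (Spec.map_injective h)
  haveI : IsLocalHom ev := inferInstanceAs (IsLocalHom (Scheme.stalkClosedPointTo one1.left).hom)
  obtain ⟨δ, hadd, hmul, hc, hind⟩ := exists_dual_derivations c0 ev hev0
  have hδ1 : ∀ i, δ i 1 = 0 := fun i => by
    have := hmul i 1 1
    simpa using this
  let dev : Fin _ → (O →+* k[ε]) := fun i =>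
    { toFun := fun a => inl (ev a) + inr (δ i a)
      map_one' := by ext <;> simp [hδ1 i]
      map_mul' := fun a b => by
        ext <;> simp [TrivSqZeroExt.fst_mul, DualNumber.snd_mul, hmul i a b] <;> ring
      map_zero' := by
        have h0 : δ i 0 = 0 := by have := hadd i 0 0; simpa using this
        ext <;> simp [h0]
      map_add' := fun a b => by ext <;> simp [hadd i a b] }
  have hdev : ∀ i, (dev i).comp c0 = inlA k := fun i => RingHom.ext fun y => by
    have : ev (c0 y) = y := RingHom.congr_fun hev0 y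
    ext <;> simp [dev, inlA, this, hc i y]
  let v : Fin _ → (sp k[ε] (inlA k) ⟶ X) := fun i =>
    Over.homMk (Spec.map (CommRingCat.ofHom (dev i)) ≫ X.left.fromSpecStalk pe) (by
      rw [Category.assoc, hstr, ← Spec.map_comp]
      exact congrArg Spec.map (congrArg CommRingCat.ofHom (hdev i)))
  have hv : ∀ i, spm (fstA k) (fstA_comp_inlA (A := k)) ≫ v i = 1 := fun i => by
    apply Over.OverMorphism.ext
    refine Eq.trans ?_ hev
    show Spec.map (CommRingCat.ofHom (fstA k)) ≫ Spec.map (CommRingCat.ofHom (dev i)) ≫ X.left.fromSpecStalk pe = _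
    rw [← Category.assoc, ← Spec.map_comp, ← CommRingCat.ofHom_comp,
      show (fstA k).comp (dev i) = ev from RingHom.ext fun a => by simp [dev, fstA]]
    rfl
  refine ⟨v, hv, fun {U} hU e he x hx => hind x fun a => ?_⟩
  let p : sp k (RingHom.id k) ⟶ X := spm e he ≫ chartPt X hU
  let τ := (trans X p).left
  have hone : one1 ≫ trans X p = p := by
    rw [comp_trans X one1 (𝟙 _) p, Category.id_comp]
    exact _root_.mul_one p
  have hpU : τ pe ∈ U := by
    have h1 : τ pe = p.left (IsLocalRing.closedPoint k) :=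
      (Scheme.Hom.comp_apply _ _ _).symm.trans (congrArg (fun ψ => ψ.left (IsLocalRing.closedPoint k)) hone)
    rw [h1]
    show (Spec.map (CommRingCat.ofHom e) ≫ hU.fromSpec) (IsLocalRing.closedPoint k) ∈ U
    rw [Scheme.Hom.comp_apply]
    exact hU.range_fromSpec.le ⟨_, rfl⟩
  haveI : IsIso τ := inferInstanceAs (IsIso ((Over.forget _).map (trans X p)))
  let σ : Γ(X.left, U) →+* O := (τ.stalkMap pe).hom.comp (X.left.presheaf.germ U (τ pe) hpU).hom
  have hkey : ∀ i, (dev i).comp σ = (dmap e).comp (lift X (v i) (hv i) hU) := fun i => by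
    refine hom_eq_of_fromSpec X hU ?_
    rw [dmap_lift X (v i) (hv i) hU e he]
    show _ = (v i).left ≫ τ
    show Spec.map (CommRingCat.ofHom ((dev i).comp σ)) ≫ hU.fromSpec =
      (Spec.map (CommRingCat.ofHom (dev i)) ≫ X.left.fromSpecStalk pe) ≫ τ
    rw [Category.assoc, ← Scheme.SpecMap_stalkMap_fromSpecStalk, ← hU.fromSpecStalk_eq_fromSpecStalk hpU,
      IsAffineOpen.fromSpecStalk, CommRingCat.ofHom_comp, CommRingCat.ofHom_comp, CommRingCat.ofHom_hom,
      CommRingCat.ofHom_hom, Spec.map_comp, Spec.map_comp]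
    simp only [Category.assoc]
  have hsum : ∀ h, ∑ i, x i * δ i (σ h) = 0 := fun h => by
    refine Eq.trans (Finset.sum_congr rfl fun i _ => ?_) (hx h)
    have := congrArg (fun z => z.snd) (RingHom.congr_fun (hkey i) h)
    simp only [RingHom.comp_apply, snd_dmap] at this
    exact congrArg (x i * ·) ((by simp [dev] : δ i (σ h) = (dev i (σ h)).snd).trans this)
  obtain ⟨b, rfl⟩ := (ConcreteCategory.bijective_of_isIso (τ.stalkMap pe)).2 a
  haveI := hU.isLocalization_stalk ⟨τ pe, hpU⟩
  letI := X.left.presheaf.algebra_section_stalk (U := U) ⟨τ pe, hpU⟩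
  obtain ⟨⟨num, den⟩, hb⟩ := IsLocalization.surj (hU.primeIdealOf ⟨τ pe, hpU⟩).asIdeal.primeCompl b
  let b' := (τ.stalkMap pe).hom b
  have hb' : b' * σ den = σ num := by
    have := congrArg (τ.stalkMap pe).hom hb
    rw [map_mul] at this
    exact this
  have hden : ev (σ den) ≠ 0 := by
    have hu : IsUnit (algebraMap Γ(X.left, U) (X.left.presheaf.stalk (τ pe)) den) :=
      IsLocalization.map_units _ den
    exact ((hu.map (τ.stalkMap pe).hom).map ev).ne_zero
  have h0 := hsum num
  rw [← hb'] at h0
  simp only [hmul, mul_add, Finset.sum_add_distrib] at h0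
  rw [show ∑ i, x i * (ev b' * δ i (σ den)) = ev b' * ∑ i, x i * δ i (σ den) from by
      rw [Finset.mul_sum]; exact Finset.sum_congr rfl fun i _ => by ring, hsum, mul_zero, zero_add,
    show ∑ i, x i * (ev (σ den) * δ i b') = ev (σ den) * ∑ i, x i * δ i b' from by
      rw [Finset.mul_sum]; exact Finset.sum_congr rfl fun i _ => by ring] at h0
  exact (mul_eq_zero.1 h0).resolve_left hden

end Groth.Agent.AVEmb13
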